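/-
A primitive group of 3-transpositions in which the partners of one member generate, modulo the
centre, the unitary group in dimension six over four elements is of type M(22).
-/
import Cfsg.Agent.H65.Fischer.Types
import Cfsg.Agent.H20.M22Type.LinkDef
import Cfsg.Agent.H20.M22Type.U6
import Cfsg.Agent.H38.M22Link.Main

set_option autoImplicit false
set_option linter.unusedSectionVars false

namespace H33.FiU6

open Cfsg H99 H65.Fischer
open H5.TT.Fac (Down qD im Desc)

variable {G : Type*} [Group G] [Finite G] {D : Set G}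
variable {F : Type} [Field F] [Fintype F]

/-- The partners of `s`, seen as transvections. -/
structure View (D : Set G) (s : G) (F : Type) [Field F] [Fintype F] where
  desc : Desc D s
  e : Down D s ≃* PSU 6 F 2
  image : e '' qD D s = tClass F

namespace View

variable {s : G} (V : View D s F)
include V

/-- The transvection of a partner. -/
noncomputable def f (x : G) : PSU 6 F 2 :=
  haveI := Classical.propDecidable
  if h : x ∈ Subgroup.closure (perp D s) then V.e (QuotientGroup.mk ⟨x, h⟩) else 1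

theorem f_eq {x : G} (h : x ∈ Subgroup.closure (perp D s)) :
    V.f x = V.e (QuotientGroup.mk ⟨x, h⟩) := dif_pos h

theorem f_im {x : G} (hx : x ∈ perp D s) : V.f x = V.e (im hx) :=
  V.f_eq (Subgroup.subset_closure hx)

theorem mem {x : G} (hx : x ∈ perp D s) : V.f x ∈ tClass F := by
  rw [V.f_im hx, ← V.image]
  exact ⟨_, H5.TT.Fac.im_mem hx, rfl⟩

theorem inj {x y : G} (hx : x ∈ perp D s) (hy : y ∈ perp D s) (h : V.f x = V.f y) : x = y := by
  rw [V.f_im hx, V.f_im hy] at h
  exact H5.TT.Fac.im_inj V.desc hx hy (V.e.injective h)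

theorem surj {t : PSU 6 F 2} (ht : t ∈ tClass F) : ∃ x ∈ perp D s, V.f x = t := by
  rw [← V.image] at ht
  obtain ⟨z, hz, rfl⟩ := ht
  obtain ⟨x, hx, rfl⟩ := H5.TT.Fac.exists_of_mem hz
  exact ⟨x, hx, V.f_im hx⟩

theorem commute_iff {x y : G} (hx : x ∈ perp D s) (hy : y ∈ perp D s) :
    Commute (V.f x) (V.f y) ↔ Commute x y := by
  rw [V.f_im hx, V.f_im hy, ← H5.TT.Fac.im_commute V.desc hx hy]
  exact ⟨fun h => V.e.injective (by rw [map_mul, map_mul, h.eq]), fun h => h.map V.e⟩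

theorem map_mul {x y : G} (hx : x ∈ Subgroup.closure (perp D s))
    (hy : y ∈ Subgroup.closure (perp D s)) : V.f (x * y) = V.f x * V.f y := by
  rw [V.f_eq (mul_mem hx hy), V.f_eq hx, V.f_eq hy, ← _root_.map_mul, ← QuotientGroup.mk_mul]
  rfl

theorem map_inv {x : G} (hx : x ∈ Subgroup.closure (perp D s)) : V.f x⁻¹ = (V.f x)⁻¹ := by
  rw [V.f_eq (inv_mem hx), V.f_eq hx, ← _root_.map_inv, ← QuotientGroup.mk_inv]
  rfl

theorem map_conj {g x : G} (hg : g ∈ Subgroup.closure (perp D s))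
    (hx : x ∈ Subgroup.closure (perp D s)) : V.f (g * x * g⁻¹) = V.f g * V.f x * (V.f g)⁻¹ := by
  rw [V.map_mul (mul_mem hg hx) (inv_mem hg), V.map_mul hg hx, V.map_inv hg]

theorem image_inter {x : G} (hx : x ∈ perp D s) :
    V.f '' (perp D s ∩ perp D x) = perp (tClass F) (V.f x) := by
  ext t
  constructor
  · rintro ⟨y, ⟨hys, hy⟩, rfl⟩
    exact ⟨V.mem hys, fun e => hy.2.1 (V.inj hys hx e), (V.commute_iff hx hys).2 hy.2.2⟩
  · rintro ⟨ht, hne, hc⟩
    obtain ⟨y, hy, rfl⟩ := V.surj ht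
    exact ⟨y, ⟨hy, hy.1, fun e => hne (by rw [e]), (V.commute_iff hx hy).1 hc⟩, rfl⟩

theorem card_inter₂ (hF : Fintype.card F = 2 ^ 2) {x y : G} (hx : x ∈ perp D s)
    (hy : y ∈ perp D s) (hn : ¬ Commute x y) :
    (perp D s ∩ perp D x ∩ (perp D s ∩ perp D y)).ncard = 45 := by
  rw [← (tClass_srg_prim hF).2.nonadj _ (V.mem hx) _ (V.mem hy)
      (fun h => hn ((V.commute_iff hx hy).1 h)), ← V.image_inter hx, ← V.image_inter hy,
    ← Set.InjOn.image_inter (fun u hu v hv e => V.inj hu hv e) Set.inter_subset_left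
      Set.inter_subset_left,
    Set.InjOn.ncard_image fun u hu v hv e => V.inj hu.1.1 hv.1.1 e]

/-- A partner of `s` outside the commutant of a given one. -/
theorem exists_far (hF : Fintype.card F = 2 ^ 2) {x : G} (hx : x ∈ perp D s) :
    ∃ y ∈ perp D s, ¬ Commute x y := by
  by_contra hno
  push Not at hno
  have hsub : tClass F ⊆ insert (V.f x) (perp (tClass F) (V.f x)) := by
    intro t ht
    obtain ⟨y, hy, rfl⟩ := V.surj ht
    by_cases he : V.f y = V.f x
    · exact Set.mem_insert_iff.2 (Or.inl he)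
    · exact Set.mem_insert_iff.2 (Or.inr ⟨V.mem hy, he, (V.commute_iff hx hy).2 (hno y hy)⟩)
  have h1 := Set.ncard_le_ncard hsub
  have h2 := Set.ncard_insert_le (V.f x) (perp (tClass F) (V.f x))
  rw [(tClass_srg_prim hF).2.deg _ (V.mem hx)] at h2
  rw [(tClass_srg_prim hF).2.card] at h1
  omega

theorem nonempty (hF : Fintype.card F = 2 ^ 2) : (perp D s).Nonempty := by
  obtain ⟨t, ht⟩ := Set.nonempty_of_ncard_ne_zero (s := tClass F) (by
    rw [(tClass_srg_prim hF).2.card]; norm_num)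
  obtain ⟨x, hx, -⟩ := V.surj ht
  exact ⟨x, hx⟩

end View

/-- A view at every member. -/
theorem exists_view (hD : IsThreeTranspositionGroup D) (hp : IsPrimitiveUnderConj D)
    (hF : Fintype.card F = 2 ^ 2) {d : G} (hd : d ∈ D) (e : Down D d ≃* PSU 6 F 2) {s : G}
    (hs : s ∈ D) : Nonempty (View D s F) := by
  have hcl := class_of_primitive hD hp
  have hnc : H5.TT.Fac.NC D d := (H5.TT.Fac.ucoord hF hD.1 hD.2.1 e).nc hF
  obtain ⟨g, hg⟩ := class_isConj hcl hd hs
  obtain ⟨φ, -⟩ := exists_downEquiv hD.2.1 g hg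
  have hds := desc_of_prim hcl hp hd hnc hs
  exact ⟨⟨hds, φ.symm.trans e, image_qD hF hD.1 hD.2.1 hds (φ.symm.trans e)⟩⟩

/-- The link of a pair with a common partner. -/
theorem link_at (hD : IsThreeTranspositionGroup D) (hF : Fintype.card F = 2 ^ 2)
    (hV : ∀ s ∈ D, Nonempty (View D s F)) {d c : G} (hd : d ∈ D) (hc : c ∈ D)
    (hn : ¬ Commute d c) (hne : (perp D d ∩ perp D c).Nonempty) (L : View D d F) :
    H20.M22T.Link (L.f '' (perp D d ∩ perp D c)) := by
  have hsub : ∀ {x : G}, x ∈ perp D d → x ∈ Subgroup.closure (perp D d) :=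
    fun hx => Subgroup.subset_closure hx
  refine ⟨?_, hne.image _, ?_, ?_, ?_⟩
  · rintro _ ⟨x, hx, rfl⟩; exact L.mem hx.1
  · rintro _ ⟨x, hx, rfl⟩ _ ⟨y, hy, rfl⟩
    have h1 : x * y * x⁻¹ ∈ perp D d := by
      have := perp_conj hD.2.1 x hy.1
      rwa [← hx.1.2.2.eq, mul_inv_cancel_right] at this
    have h2 : x * y * x⁻¹ ∈ perp D c := by
      have := perp_conj hD.2.1 x hy.2
      rwa [← hx.2.2.2.eq, mul_inv_cancel_right] at this
    exact ⟨x * y * x⁻¹, ⟨h1, h2⟩, L.map_conj (hsub hx.1) (hsub hy.1)⟩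
  · rintro _ ⟨x, hx, rfl⟩
    obtain ⟨M⟩ := hV x hx.1.1
    rw [← L.image_inter hx.1, ← Set.InjOn.image_inter (fun u hu v hv e => L.inj hu hv e)
      Set.inter_subset_left Set.inter_subset_left,
      Set.InjOn.ncard_image fun u hu v hv e => L.inj hu.1.1 hv.1.1 e,
      ← M.card_inter₂ hF (perp_mem_symm hd hx.1) (perp_mem_symm hc hx.2) hn]
    congr 1
    ext u
    simp only [Set.mem_inter_iff]
    tauto
  · rintro _ ⟨x, hx, rfl⟩ _ hy _ hz hr
    rw [← L.image_inter hx.1, ← Set.InjOn.image_inter (fun u hu v hv e => L.inj hu hv e)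
      Set.inter_subset_left Set.inter_subset_left] at hy hz
    obtain ⟨y, ⟨⟨hyd, hyc⟩, -, hyx⟩, rfl⟩ := hy
    obtain ⟨z, ⟨⟨hzd, hzc⟩, -, hzx⟩, rfl⟩ := hz
    obtain ⟨M⟩ := hV x hx.1.1
    have hdx := perp_mem_symm hd hx.1
    have hcx := perp_mem_symm hc hx.2
    refine congrArg L.f (M.inj hzx hyx (H20.M22T.line_pair hF (t := M.f d) (c := M.f c) (M.mem hdx)
      (M.mem hyx) (M.mem hzx) (M.mem hcx) (fun e => hyd.2.1 (M.inj hdx hyx e).symm)
      (fun e => hn ((M.commute_iff hcx hdx).1 e).symm)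
      ((M.commute_iff hcx hyx).2 hyc.2.2) ((M.commute_iff hcx hzx).2 hzc.2.2) ?_))
    intro t ht htd hty
    obtain ⟨w, hw, rfl⟩ := M.surj ht
    have hwd := (M.commute_iff hw hdx).1 htd
    have hwy := (M.commute_iff hw hyx).1 hty
    refine (M.commute_iff hw hzx).2 ?_
    by_cases hwe : w = d
    · rw [hwe]; exact hzd.2.2
    · have hwp : w ∈ perp D d := ⟨hw.1, hwe, hwd.symm⟩
      exact (L.commute_iff hwp hzd).1 (hr _ (L.mem hwp)
        ((L.commute_iff hwp hx.1).2 hw.2.2.symm) ((L.commute_iff hwp hyd).2 hwy))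

/-- The step from the unitary group to type M(22). -/
theorem type_m22 (hD : IsThreeTranspositionGroup D) (hp : IsPrimitiveUnderConj D)
    (hZ : Subgroup.center G = ⊥) (hF : Fintype.card F = 4) {d : G} (hd : d ∈ D)
    (e : Down D d ≃* PSU 6 F 2) : IsOfTypeM22 G D := by
  have hF' : Fintype.card F = 2 ^ 2 := by rw [hF]; norm_num
  have hV : ∀ s ∈ D, Nonempty (View D s F) := fun s hs => exists_view hD hp hF' hd e hs
  obtain ⟨L⟩ := hV d hd
  obtain ⟨x, hx⟩ := L.nonempty hF'
  obtain ⟨M⟩ := hV x hx.1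
  obtain ⟨c, hc, hn⟩ := M.exists_far hF' (perp_mem_symm hd hx)
  have hne : (perp D d ∩ perp D c).Nonempty := ⟨x, hx, perp_mem_symm hx.1 hc⟩
  refine ⟨hZ, d, hd, c, hc.1, hn, ⟨F, inferInstance, inferInstance, hF, ⟨e⟩⟩, ?_⟩
  obtain ⟨c₃, hc₃, Q, hQ1, hQ2, ⟨β⟩⟩ :=
    H38.M22Link.link_proj_reflection hF' (link_at hD hF' hV hd hc.1 hn hne L)
  refine ⟨c₃, hc₃, Q, hQ1, hQ2, ?_⟩
  set S := perp D d ∩ perp D c with hS
  set H := Subgroup.closure S with hH
  show Nonempty (↥H ⧸ Subgroup.center ↥H ≃* _)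
  have hle : ∀ y ∈ H, y ∈ Subgroup.closure (perp D d) :=
    fun y hy => Subgroup.closure_mono Set.inter_subset_left hy
  let ψ₀ : ↥H →* PSU 6 F 2 := MonoidHom.mk' (fun y : ↥H => L.f y) fun a b =>
    L.map_mul (hle a a.2) (hle b b.2)
  have himg : Subgroup.closure (L.f '' S) = ψ₀.range := by
    refine le_antisymm ((Subgroup.closure_le _).2 ?_) ?_
    · rintro _ ⟨y, hy, rfl⟩
      exact ⟨⟨y, Subgroup.subset_closure hy⟩, rfl⟩
    · rintro _ ⟨⟨y, hy⟩, rfl⟩
      show L.f y ∈ _
      induction hy using Subgroup.closure_induction with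
      | mem y hy => exact Subgroup.subset_closure ⟨y, hy, rfl⟩
      | one =>
        rw [show L.f (1 : G) = 1 from ψ₀.map_one]; exact one_mem _
      | mul a b ha hb ea eb => rw [L.map_mul (hle a ha) (hle b hb)]; exact mul_mem ea eb
      | inv a ha ea => rw [L.map_inv (hle a ha)]; exact inv_mem ea
  let ψ : ↥H →* ↥(Subgroup.closure (L.f '' S)) :=
    ψ₀.codRestrict _ fun y => himg ▸ ⟨y, rfl⟩
  have hψ : Function.Surjective ψ := fun ⟨t, ht⟩ => by
    rw [himg] at ht
    obtain ⟨y, rfl⟩ := ht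
    exact ⟨y, rfl⟩
  set π' := (QuotientGroup.mk' (Subgroup.center ↥(Subgroup.closure (L.f '' S)))).comp ψ with hπ'
  have hker : π'.ker = Subgroup.center ↥H := by
    ext z
    rw [MonoidHom.mem_ker, hπ', MonoidHom.comp_apply, QuotientGroup.mk'_apply,
      QuotientGroup.eq_one_iff, Subgroup.mem_center_iff, Subgroup.mem_center_iff]
    constructor
    · intro hz g
      refine Subtype.ext ?_
      show (g : G) * z = z * g
      refine (?_ : Commute (g : G) z).eq
      have hcen : H ≤ Subgroup.centralizer ({(z : G)} : Set G) := by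
        refine (Subgroup.closure_le _).2 fun y hy => ?_
        refine Subgroup.mem_centralizer_singleton_iff.2 (?_ : Commute y (z : G)).eq
        have h1 : L.f y * L.f z = L.f z * L.f y :=
          congrArg Subtype.val (hz (ψ ⟨y, Subgroup.subset_closure hy⟩))
        have hzK := hle z z.2
        have h2 : L.f ((z : G) * y * (z : G)⁻¹) = L.f y := by
          rw [L.map_conj hzK (Subgroup.subset_closure hy.1), ← h1, mul_inv_cancel_right]
        exact (mul_inv_eq_iff_eq_mul.1
          (L.inj (H5.TT.Fac.perp_closure_conj L.desc hzK hy.1) hy.1 h2)).symm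
      exact Subgroup.mem_centralizer_singleton_iff.1 (hcen g.2)
    · intro hz t
      obtain ⟨g, rfl⟩ := hψ t
      rw [← _root_.map_mul, ← _root_.map_mul, hz g]
  have hsurj : Function.Surjective π' :=
    (QuotientGroup.mk'_surjective _).comp hψ
  exact ⟨((QuotientGroup.quotientMulEquivOfEq hker.symm).trans
    (QuotientGroup.quotientKerEquivOfSurjective π' hsurj)).trans β⟩

end H33.FiU6
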